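import Mathlib
import Groth.Agent.Lib.Helper2.HomExt.Reflexive
import Groth.Agent.Lib.Helper2.HomExt.ExtDual
import Groth.Agent.Lib.Helper1.VBP10
import Groth.Agent.Lib.Helper1.AffPushEpi
import Groth.Agent.Lib.Helper1.SerreCrit
import Groth.Agent.Lib.Helper1.TildeTens
import Groth.Agent.Lib.Helper5.FBC.PiAff
import Groth.Agent.Lib.Helper5.LTen.Flf
import Groth.Agent.Lib.Helper5.LTen.Assoc1
import Groth.Agent.Lib.Helper5.Misc.TensorSheaf
import Groth.Agent.Lib.Helper5.RHomQC.PerfO
import Groth.Agent.Lib.Lead.PBQc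
import Groth.Prelude.Def_PerfAux
import Groth.Prelude.Def_Mor2

/-!
# The resolution property descends along surjective finite locally free morphisms (helper5)
-/
set_option backward.isDefEq.respectTransparency.types false
set_option synthInstance.maxHeartbeats 400000
set_option autoImplicit false
set_option linter.unusedSectionVars false
set_option linter.unusedVariables false
set_option linter.style.haveILetI false
universe u
open CategoryTheory CategoryTheory.Limits AlgebraicGeometry TopologicalSpace Opposite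

namespace Groth.Agent.Lib.Helper5.ResDesc

open Groth.Agent.Lead.RH Groth.Agent.Helper1.QcCech Groth.Agent.Helper1.TmulLib
  Groth.Agent.Helper1.TensLib Groth.Agent.Helper1.ProjF Groth.Agent.Helper1.PFrame
  Groth.Agent.Helper2.HomExt

variable {X Y : Scheme.{u}}

/-- evaluation `E ⊗ E^∨ ⟶ O` is an epimorphism when `E` has local bases of positive rank -/
theorem epi_ev (E : X.Modules)
    (hE : ∀ x : X, ∃ (W : X.Opens) (n : ℕ) (b : Fin (n + 1) → Γ(E, W)), x ∈ W ∧ IsBasisOn E W b) :
    Epi (ev E (Coh.structureModule X)) := by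
  apply Groth.Agent.Helper1.SerreCrit.epi_of_locally_surjective
  intro U t x hx
  obtain ⟨W, n, b, hxW, hb⟩ := hE x
  have h1 : W ⊓ U ≤ W := inf_le_left
  have h2 : W ⊓ U ≤ U := inf_le_right
  refine ⟨W ⊓ U, h2, ⟨hxW, hx⟩, ?_⟩
  set t' : Γ(Coh.structureModule X, W ⊓ U) := res (Coh.structureModule X) h2 t with ht'
  refine ⟨tm E (RefHull.homSh E (Coh.structureModule X)) (W ⊓ U) (fn t' • res E h1 (b 0))
    (res (RefHull.dual E) h1 (dualBasis hb 0)), ?_⟩
  rw [ev_tm, app_smul]
  apply fn_injective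
  rw [fn_smul, fn_app_res_dualBasis hb 0 0 h1, if_pos rfl, mul_one]

/-- the local bases of `f_* O_X` have positive rank when `f` is surjective -/
theorem pos_bases (f : X ⟶ Y) [Surjective f]
    (hV : HasBases ((Scheme.Modules.pushforward f).obj (Coh.structureModule X))) :
    ∀ y : Y, ∃ (W : Y.Opens) (n : ℕ)
      (b : Fin (n + 1) → Γ((Scheme.Modules.pushforward f).obj (Coh.structureModule X), W)),
      y ∈ W ∧ IsBasisOn ((Scheme.Modules.pushforward f).obj (Coh.structureModule X)) W b := by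
  intro y
  obtain ⟨W, n, b, hyW, hb⟩ := hV y
  cases n with
  | zero =>
    exfalso
    have hbij := hb.bijective_self
    have hsub : Subsingleton Γ(X, f ⁻¹ᵁ W) := by
      refine ⟨fun a c => ?_⟩
      obtain ⟨r, hr⟩ := hbij.2 (show Γ((Scheme.Modules.pushforward f).obj (Coh.structureModule X), W) from a)
      obtain ⟨r', hr'⟩ := hbij.2 (show Γ((Scheme.Modules.pushforward f).obj (Coh.structureModule X), W) from c)
      have e : r = r' := Subsingleton.elim _ _
      have h1 : (show Γ((Scheme.Modules.pushforward f).obj (Coh.structureModule X), W) from a) =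
          (show Γ((Scheme.Modules.pushforward f).obj (Coh.structureModule X), W) from c) := by
        rw [← hr, ← hr', e]
      exact h1
    obtain ⟨x, rfl⟩ := Surjective.surj (f := f) y
    have hx : x ∈ f ⁻¹ᵁ W := hyW
    have h1 : X.basicOpen (1 : Γ(X, f ⁻¹ᵁ W)) = f ⁻¹ᵁ W := X.basicOpen_of_isUnit isUnit_one
    have h0 : X.basicOpen (0 : Γ(X, f ⁻¹ᵁ W)) = ⊥ := X.basicOpen_zero _
    have h10 : (1 : Γ(X, f ⁻¹ᵁ W)) = 0 := Subsingleton.elim _ _
    rw [h10, h0] at h1
    rw [← h1] at hx
    exact hx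
  | succ n => exact ⟨W, n, b, hyW, hb⟩

/-- `O ⊗ N ≅ N` -/
noncomputable def lunit (N : X.Modules) :
    (DCoh.tensorBi.obj (Coh.structureModule X)).obj N ≅ N :=
  Groth.Agent.Helper1.TildeTens.tensorModComm (Coh.structureModule X) N ≪≫
    Groth.Agent.Lib.Helper5.LTenFlf.tensorUnitIso N

instance (N : X.Modules) : (DCoh.tensorBi.obj N).PreservesEpimorphisms := by
  haveI : PreservesColimitsOfSize.{u, u} ((DCoh.tensorBi (X := X)).obj N) :=
    Groth.Agent.Lib.Helper5.TensorSheaf.tensorBi_obj_preservesColimits (O := X.sheaf) N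
  haveI : PreservesFiniteColimits ((DCoh.tensorBi (X := X)).obj N) :=
    PreservesColimitsOfSize.preservesFiniteColimits _
  infer_instance

instance (N : X.Modules) : (DCoh.tensorBi.flip.obj N).PreservesEpimorphisms := by
  haveI : PreservesColimitsOfSize.{u, u} ((DCoh.tensorBi (X := X)).flip.obj N) :=
    Groth.Agent.Lib.Helper5.TensorSheaf.tensorBi_flip_obj_preservesColimits (O := X.sheaf) N
  haveI : PreservesFiniteColimits ((DCoh.tensorBi (X := X)).flip.obj N) :=
    PreservesColimitsOfSize.preservesFiniteColimits _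
  infer_instance

/-- **the resolution property descends along surjective finite locally free morphisms** -/
theorem hasResolutionProperty_of_finLocFree (f : X ⟶ Y) (hf : Mor2.IsFinLocFree f) [Surjective f]
    (hX : PerfAux.HasResolutionProperty X) : PerfAux.HasResolutionProperty Y := by
  intro F hFq hFft
  haveI : F.IsQuasicoherent := hFq
  obtain ⟨hfin, hflat, hlfp⟩ := hf
  haveI : IsFinite f := hfin
  haveI : IsAffineHom f := inferInstance
  have hq' : ((Scheme.Modules.pullback f).obj F).IsQuasicoherent :=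
    Groth.Agent.Lead.PB.isQuasicoherent_pullback f F
  have hft' : CohB1.IsFT ((Scheme.Modules.pullback f).obj F) :=
    Groth.Agent.Lead.PB.isFT_pullback f F hFft
  obtain ⟨E, π, hE, hπ⟩ := hX _ hq' hft'
  haveI : E.IsQuasicoherent := Groth.Agent.Lead.FLF.isQuasicoherent_of_isFinLocFree E hE
  haveI := hπ
  have hOX : FlatMod.IsFinLocFree (Coh.structureModule X) :=
    Groth.Agent.Lib.Helper5.RHomQC.isFinLocFree_structureModule X
  haveI : (Coh.structureModule X).IsQuasicoherent :=
    Groth.Agent.Lead.FLF.isQuasicoherent_of_isFinLocFree _ hOX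
  have hW : FlatMod.IsFinLocFree ((Scheme.Modules.pushforward f).obj E) :=
    Groth.Agent.Helper1.VBP.isFinLocFree_pushforward f ⟨hfin, hflat, hlfp⟩ E hE
  have hV : FlatMod.IsFinLocFree ((Scheme.Modules.pushforward f).obj (Coh.structureModule X)) :=
    Groth.Agent.Helper1.VBP.isFinLocFree_pushforward f ⟨hfin, hflat, hlfp⟩ _ hOX
  have hVb := hasBases_of_isFinLocFree hV
  have hD : FlatMod.IsFinLocFree
      (RefHull.dual ((Scheme.Modules.pushforward f).obj (Coh.structureModule X))) :=
    isFinLocFree_of_hasBases (hasBases_dual hVb)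
  haveI hp : Epi ((Scheme.Modules.pushforward f).map π) :=
    Groth.Agent.Helper1.AffPushEpi.epi_pushforward_of_isAffineHom f π
  haveI hev := epi_ev _ (pos_bases f hVb)
  set V := (Scheme.Modules.pushforward f).obj (Coh.structureModule X) with hVdef
  set D := RefHull.dual V with hDdef
  -- the isomorphism `f_* f^* F ≅ V ⊗ F`
  haveI hpi : IsIso (Groth.Agent.Lib.Helper5.ProjF.piMap f (Coh.structureModule X) F) :=
    Groth.Agent.Lib.Helper5.FBC.isIso_piMap_of_isAffineHom f (Coh.structureModule X) F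
  let i2 : (Scheme.Modules.pushforward f).obj ((Scheme.Modules.pullback f).obj F) ≅
      (DCoh.tensorBi.obj V).obj F :=
    ((Scheme.Modules.pushforward f).mapIso (lunit ((Scheme.Modules.pullback f).obj F))).symm ≪≫
      (asIso (Groth.Agent.Lib.Helper5.ProjF.piMap f (Coh.structureModule X) F)).symm
  let m1 := (DCoh.tensorBi.flip.obj D).map ((Scheme.Modules.pushforward f).map π)
  let m2 := (DCoh.tensorBi.flip.obj D).mapIso i2
  let m3 := (DCoh.tensorBi.flip.obj D).mapIso
    (Groth.Agent.Helper1.TildeTens.tensorModComm V F)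
  let m4 := Groth.Agent.Lib.Helper5.TenAssoc.assocObj (O := Y.sheaf) F V D
  let m5 := (DCoh.tensorBi.obj F).map (ev V (Coh.structureModule Y))
  let m6 := Groth.Agent.Lib.Helper5.LTenFlf.tensorUnitIso F
  haveI : Epi m1 := inferInstance
  haveI : Epi m5 := inferInstance
  refine ⟨(DCoh.tensorBi.obj ((Scheme.Modules.pushforward f).obj E)).obj D,
    m1 ≫ m2.hom ≫ m3.hom ≫ m4.hom ≫ m5 ≫ m6.hom,
    Groth.Agent.Lib.Helper5.LTenFlf.isFinLocFree_tensor _ _ hW hD, ?_⟩
  have e7 : Epi m6.hom := inferInstance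
  have e7' : Epi m5 := inferInstance
  haveI e6 : Epi (m5 ≫ m6.hom) := @epi_comp _ _ _ _ _ m5 e7' m6.hom e7
  have e5 : Epi (m4.hom ≫ m5 ≫ m6.hom) :=
    @epi_comp _ _ _ _ _ m4.hom inferInstance (m5 ≫ m6.hom) e6
  have e4 : Epi (m3.hom ≫ m4.hom ≫ m5 ≫ m6.hom) :=
    @epi_comp _ _ _ _ _ m3.hom inferInstance (m4.hom ≫ m5 ≫ m6.hom) e5
  have e3 : Epi (m2.hom ≫ m3.hom ≫ m4.hom ≫ m5 ≫ m6.hom) :=
    @epi_comp _ _ _ _ _ m2.hom inferInstance (m3.hom ≫ m4.hom ≫ m5 ≫ m6.hom) e4
  have e1 : Epi m1 := inferInstance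
  exact @epi_comp _ _ _ _ _ m1 e1 (m2.hom ≫ m3.hom ≫ m4.hom ≫ m5 ≫ m6.hom) e3

end Groth.Agent.Lib.Helper5.ResDesc
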